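import Groth.Agent.Lib.HLVT.Chevalley
import Groth.Agent.Lib.CatLimit.Basic
import Groth.Agent.Lib.DimIneq9.Basic
import Groth.Agent.Lib.AdicExtra.Completion
import Mathlib

/-!
# The adic topology induced from an essentially of finite type extension (analytically irreducible base)
-/

universe u

open MvPolynomial (C X)

namespace GrothLib.TopInduced1

variable {n : ℕ}

/-- A prime over a prime `q` of `A[X]` with `q ∩ A = 0`, minimal over `q B[X]`, meets `B` in zero, for
`A ⊆ B` a flat extension of domains. -/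
theorem comap_C_eq_bot {A B : Type u} [CommRing A] [IsDomain A] [IsNoetherianRing A]
    [CommRing B] [IsDomain B] [IsNoetherianRing B] (ι : A →+* B) (hι : ι.Flat)
    (hinj : Function.Injective ι) (q : Ideal (MvPolynomial (Fin n) A)) [q.IsPrime]
    (hq0 : q.comap C = ⊥) (Q : Ideal (MvPolynomial (Fin n) B)) [Q.IsPrime]
    (hQ : Q ∈ (q.map (MvPolynomial.map ι)).minimalPrimes) : Q.comap C = ⊥ := by
  letI : Algebra (MvPolynomial (Fin n) A) (MvPolynomial (Fin n) B) :=
    (MvPolynomial.map ι).toAlgebra
  haveI : Module.Flat (MvPolynomial (Fin n) A) (MvPolynomial (Fin n) B) :=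
    CatLimit.flat_mvPolynomial_map ι hι (Fin n)
  have hmin : ∀ I : Ideal (MvPolynomial (Fin n) B), I.IsPrime → q.map (algebraMap _ _) ≤ I → I ≤ Q → I = Q :=
    fun I hI h1 h2 => le_antisymm h2 (hQ.2 ⟨hI, h1⟩ h2)
  -- minimal primes of the extension lie over `q`
  have hQq : Q.comap (algebraMap (MvPolynomial (Fin n) A) (MvPolynomial (Fin n) B)) = q := by
    rcases lt_or_eq_of_le (Ideal.map_le_iff_le_comap.1 hQ.1.2) with hlt | he
    swap
    · exact he.symm
    obtain ⟨P, hPQ, hP, hPq⟩ := Algebra.HasGoingDown.exists_ideal_le_liesOver_of_lt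
      (R := MvPolynomial (Fin n) A) Q hlt
    rw [← hmin P hP (Ideal.map_le_iff_le_comap.2 hPq.over.le) hPQ]
    exact hPq.over.symm
  haveI : Q.LiesOver q := ⟨hQq.symm⟩
  have hQle : Q.height ≤ q.height := by
    refine (Ideal.height_le_height_add_of_liesOver q Q).trans (le_of_eq ?_)
    haveI : (Q.map (Ideal.Quotient.mk (q.map (algebraMap (MvPolynomial (Fin n) A) (MvPolynomial (Fin n) B))))).IsPrime :=
      Ideal.map_isPrime_of_surjective Ideal.Quotient.mk_surjective (by rw [Ideal.mk_ker]; exact hQ.1.2)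
    rw [add_comm, Ideal.height_eq_zero_iff.2, zero_add]
    have h := Ideal.minimalPrimes_eq_comap (I := q.map (algebraMap (MvPolynomial (Fin n) A) (MvPolynomial (Fin n) B)))
    obtain ⟨Q', hQ', e⟩ := (h ▸ hQ : Q ∈ _)
    rw [← e, Ideal.map_comap_of_surjective _ Ideal.Quotient.mk_surjective]
    exact hQ'
  set p := Q.comap (C : B →+* MvPolynomial (Fin n) B) with hp
  by_contra hne
  haveI : Nontrivial (B ⧸ p) := Ideal.Quotient.nontrivial_iff.2 (Ideal.IsPrime.ne_top inferInstance)
  let L := FractionRing (B ⧸ p)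
  let β : B →+* L := (algebraMap (B ⧸ p) L).comp (Ideal.Quotient.mk p)
  have hβ : ∀ b, β b = 0 ↔ b ∈ p := fun b => by
    rw [RingHom.comp_apply, map_eq_zero_iff _ (IsFractionRing.injective _ _), Ideal.Quotient.eq_zero_iff_mem]
  have hp0 : ∀ a : A, ι a ∈ p → a = 0 := fun a ha => by
    have h1 : C a ∈ q := by
      rw [← hQq, Ideal.mem_comap]
      show MvPolynomial.map ι (C a) ∈ Q
      rw [MvPolynomial.map_C]
      exact ha
    exact (Submodule.mem_bot A).1 (hq0 ▸ (show a ∈ q.comap C from h1))
  let γ : A →+* L := β.comp ι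
  have hγ : γ.Flat := by
    letI := γ.toAlgebra
    let K := FractionRing A
    have hγi : Function.Injective γ := (injective_iff_map_eq_zero γ).2 fun a ha => hp0 a ((hβ _).1 ha)
    haveI : FaithfulSMul A L := (faithfulSMul_iff_algebraMap_injective A L).2 hγi
    letI : Algebra K L := FractionRing.liftAlgebra A L
    haveI : IsScalarTower A K L := inferInstance
    haveI : Module.Flat A K := IsLocalization.flat K (nonZeroDivisors A)
    exact Module.Flat.trans A K L
  let φ : MvPolynomial (Fin n) B →+* MvPolynomial (Fin n) L := MvPolynomial.map β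
  -- every element of `L[X]` is an element of the image over a nonzero constant
  have hfrac : ∀ f : MvPolynomial (Fin n) L, ∃ (b : B) (g : MvPolynomial (Fin n) B), b ∉ p ∧ f * C (β b) = φ g := by
    intro f
    induction f using MvPolynomial.induction_on with
    | C l =>
      obtain ⟨x, s, rfl⟩ := IsLocalization.exists_mk'_eq (nonZeroDivisors (B ⧸ p)) l
      obtain ⟨b, hb⟩ := Ideal.Quotient.mk_surjective s.1
      obtain ⟨a, ha⟩ := Ideal.Quotient.mk_surjective x
      refine ⟨b, C a, fun h => nonZeroDivisors.coe_ne_zero s (hb ▸ Ideal.Quotient.eq_zero_iff_mem.2 h), ?_⟩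
      show _ = MvPolynomial.map β (C a)
      rw [MvPolynomial.map_C, ← map_mul]
      congr 1
      simp only [β, RingHom.comp_apply, hb, ha]
      exact IsLocalization.mk'_spec L x s
    | add f g hf hg =>
      obtain ⟨b, F, hb, hF⟩ := hf
      obtain ⟨c, G, hc, hG⟩ := hg
      refine ⟨b * c, F * C c + G * C b, fun h => ((inferInstance : p.IsPrime).mem_or_mem h).elim hb hc, ?_⟩
      simp only [φ, map_add, map_mul, MvPolynomial.map_C] at hF hG ⊢
      rw [← hF, ← hG]
      ring
    | mul_X f i hf =>
      obtain ⟨b, F, hb, hF⟩ := hf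
      exact ⟨b, F * X i, hb, by simp only [φ, map_mul, MvPolynomial.map_X] at hF ⊢; rw [← hF]; ring⟩
  have hker : RingHom.ker φ = p.map C := by
    rw [show φ = MvPolynomial.map β from rfl, MvPolynomial.ker_map]
    congr 1
    ext b
    exact hβ b
  haveI hkp : (RingHom.ker φ).IsPrime := RingHom.ker_isPrime φ
  have hle : RingHom.ker φ ≤ Q := by rw [hker]; exact Ideal.map_comap_le
  -- the prime of `L[X]` over `Q`
  let Q' : Ideal (MvPolynomial (Fin n) L) :=
    { carrier := {f | ∀ (b : B) (g : MvPolynomial (Fin n) B), b ∉ p → f * C (β b) = φ g → g ∈ Q}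
      zero_mem' := fun b g _ h => by
        rw [zero_mul] at h
        exact hle h.symm
      add_mem' := fun {f f'} hf hf' b g hb h => by
        obtain ⟨c, F, hc, hF⟩ := hfrac f
        obtain ⟨c', F', hc', hF'⟩ := hfrac f'
        have h1 : g * C c * C c' - (F * C b * C c' + F' * C b * C c) ∈ Q := hle (by
          rw [RingHom.mem_ker, map_sub, map_add, map_mul, map_mul, map_mul, map_mul, map_mul, map_mul, ← h, ← hF, ← hF']
          simp only [φ, MvPolynomial.map_C]
          ring)
        have h2 : g * C c * C c' ∈ Q := by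
          have := add_mem h1 (add_mem (Q.mul_mem_right (C c') (Q.mul_mem_right (C b) (hf c F hc hF)))
            (Q.mul_mem_right (C c) (Q.mul_mem_right (C b) (hf' c' F' hc' hF'))))
          rwa [sub_add_cancel] at this
        exact (Ideal.IsPrime.mem_or_mem ‹Q.IsPrime› ((Ideal.IsPrime.mem_or_mem ‹Q.IsPrime› h2).resolve_right hc')).resolve_right hc
      smul_mem' := fun r f hf b g hb h => by
        obtain ⟨c, R', hc, hR⟩ := hfrac r
        obtain ⟨d, F, hd, hF⟩ := hfrac f
        have h1 : g * C c * C d - R' * F * C b ∈ Q := hle (by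
          rw [RingHom.mem_ker, map_sub, map_mul, map_mul, map_mul, map_mul, ← h, ← hR, ← hF]
          simp only [φ, MvPolynomial.map_C, smul_eq_mul]
          ring)
        have h2 : g * C c * C d ∈ Q := by
          have := add_mem h1 (Q.mul_mem_right (C b) (Q.mul_mem_left R' (hf d F hd hF)))
          rwa [sub_add_cancel] at this
        exact (Ideal.IsPrime.mem_or_mem ‹Q.IsPrime› ((Ideal.IsPrime.mem_or_mem ‹Q.IsPrime› h2).resolve_right hd)).resolve_right hc }
  have hmem : ∀ g, φ g ∈ Q' ↔ g ∈ Q := fun g => by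
    constructor
    · intro h
      have := h 1 g (fun h1 => (inferInstance : p.IsPrime).ne_top ((Ideal.eq_top_iff_one _).2 h1)) (by simp)
      exact this
    · intro hg b g' hb h
      have h1 : g' - g * C b ∈ Q := hle (by
        rw [RingHom.mem_ker, map_sub, map_mul, ← h, show φ (C b) = C (β b) from MvPolynomial.map_C _ _, sub_self])
      have := add_mem h1 (Q.mul_mem_right (C b) hg)
      rwa [sub_add_cancel] at this
  have hQ'p : Q'.IsPrime := by
    refine ⟨fun h => (inferInstance : Q.IsPrime).ne_top ((Ideal.eq_top_iff_one _).2 ?_), fun {f f'} hff => ?_⟩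
    · rw [← hmem, map_one]
      exact (Ideal.eq_top_iff_one _).1 h
    · obtain ⟨c, F, hc, hF⟩ := hfrac f
      obtain ⟨c', F', hc', hF'⟩ := hfrac f'
      have hFF : F * F' ∈ Q := hff (c * c') (F * F')
        (fun h => ((inferInstance : p.IsPrime).mem_or_mem h).elim hc hc')
        (by rw [map_mul φ, ← hF, ← hF', map_mul, map_mul]; ring)
      rcases Ideal.IsPrime.mem_or_mem ‹Q.IsPrime› hFF with h | h
      · refine Or.inl fun b g hb hg => ?_
        have h1 : g * C c - F * C b ∈ Q := hle (by
          rw [RingHom.mem_ker, map_sub, map_mul, map_mul, ← hg, ← hF]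
          simp only [φ, MvPolynomial.map_C]
          ring)
        have := add_mem h1 (Q.mul_mem_right (C b) h)
        rw [sub_add_cancel] at this
        exact (Ideal.IsPrime.mem_or_mem ‹Q.IsPrime› this).resolve_right hc
      · refine Or.inr fun b g hb hg => ?_
        have h1 : g * C c' - F' * C b ∈ Q := hle (by
          rw [RingHom.mem_ker, map_sub, map_mul, map_mul, ← hg, ← hF']
          simp only [φ, MvPolynomial.map_C]
          ring)
        have := add_mem h1 (Q.mul_mem_right (C b) h)
        rw [sub_add_cancel] at this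
        exact (Ideal.IsPrime.mem_or_mem ‹Q.IsPrime› this).resolve_right hc'
  have hQ'c : Q'.comap φ = Q := Ideal.ext hmem
  -- heights
  have hstrict : StrictMono (PrimeSpectrum.comap φ) := fun P₁ P₂ h => by
    refine lt_of_le_of_ne (Ideal.comap_mono h.le) fun he => h.ne (PrimeSpectrum.ext (le_antisymm h.le ?_))
    intro f hf
    obtain ⟨b, g, hb, hg⟩ := hfrac f
    have h1 : g ∈ (PrimeSpectrum.comap φ P₂).asIdeal := by
      show φ g ∈ P₂.asIdeal
      rw [← hg]
      exact P₂.asIdeal.mul_mem_right _ hf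
    rw [← he] at h1
    have h2 : f * C (β b) ∈ P₁.asIdeal := hg ▸ h1
    refine (P₁.isPrime.mem_or_mem h2).resolve_right fun h3 => P₁.isPrime.ne_top ?_
    refine Ideal.eq_top_of_isUnit_mem _ h3 ((IsUnit.map C) (isUnit_iff_ne_zero.2 fun h0 => hb ((hβ b).1 h0)))
  letI : Algebra (MvPolynomial (Fin n) A) (MvPolynomial (Fin n) L) := (MvPolynomial.map γ).toAlgebra
  haveI : Module.Flat (MvPolynomial (Fin n) A) (MvPolynomial (Fin n) L) :=
    CatLimit.flat_mvPolynomial_map γ hγ (Fin n)
  haveI := hQ'p
  haveI : Q'.LiesOver q := ⟨by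
    ext f
    rw [Ideal.mem_comap]
    show f ∈ q ↔ MvPolynomial.map γ f ∈ Q'
    rw [show MvPolynomial.map γ f = φ (MvPolynomial.map ι f) from (MvPolynomial.map_map _ _ f).symm, hmem, ← hQq]
    rfl⟩
  have hq' : q.height ≤ Q'.height := by
    rw [Ideal.height_eq_height_add_of_liesOver_of_hasGoingDown q Q']
    exact le_self_add
  obtain ⟨l, hlast, hlen⟩ := Q'.exists_ltSeries_length_eq_height
  have hchain := DimIneq9.height_head_add_length_le (l.map _ hstrict)
  have hhead : (1 : ℕ∞) ≤ Order.height (PrimeSpectrum.comap φ l.head) := by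
    refine le_trans le_add_self (Order.height_add_one_le
      (show (⟨⊥, Ideal.isPrime_bot⟩ : PrimeSpectrum (MvPolynomial (Fin n) B)) < PrimeSpectrum.comap φ l.head from ?_))
    show (⊥ : Ideal (MvPolynomial (Fin n) B)) < (PrimeSpectrum.comap φ l.head).asIdeal
    refine lt_of_lt_of_le (bot_lt_iff_ne_bot.2 fun h => hne ?_ : (⊥ : Ideal _) < RingHom.ker φ)
      (fun x (hx : x ∈ RingHom.ker φ) => by
        show φ x ∈ l.head.asIdeal
        rw [RingHom.mem_ker.1 hx]; exact zero_mem _)
    rw [eq_bot_iff]
    intro b hb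
    have h1 : C b ∈ RingHom.ker φ := by rw [hker]; exact Ideal.mem_map_of_mem _ hb
    rw [h, Submodule.mem_bot, map_eq_zero_iff _ (MvPolynomial.C_injective _ _)] at h1
    exact h1
  have hlast' : (l.map _ hstrict).last = ⟨Q, inferInstance⟩ := by
    rw [LTSeries.last_map, hlast]
    exact PrimeSpectrum.ext hQ'c
  rw [hlast', ← PrimeSpectrum.height_eq_orderHeight ⟨Q, inferInstance⟩] at hchain
  have h3 : (1 : ℕ∞) + q.height ≤ q.height :=
    calc (1 : ℕ∞) + q.height ≤ 1 + Q'.height := add_le_add_right hq' _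
      _ = 1 + (l.length : ℕ∞) := by rw [hlen]
      _ ≤ Order.height (l.map _ hstrict).head + ((l.map _ hstrict).length : ℕ∞) := by
        gcongr
        · rw [LTSeries.head_map]; exact hhead
        · rfl
      _ ≤ Q.height := hchain
      _ ≤ q.height := hQle
  have hfin := ENat.ne_top_iff_exists.1 (Ideal.height_ne_top_of_isPrime (R := MvPolynomial (Fin n) A) (I := q))
  obtain ⟨h₀, hh₀⟩ := hfin
  rw [← hh₀] at h3
  norm_cast at h3
  omega

end GrothLib.TopInduced1
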